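import Cfsg.Agent.Lib.Blocks.ClassAlgebra
import Cfsg.Agent.Lib.Blocks.LocalRing
import Cfsg.Agent.Lib.BlockCongr.Basic
import Cfsg.Agent.Lib.SteinbergBlock.CentralIdem
import Cfsg.Agent.Lib.Transfer.Criteria
import Mathlib

/-!
# Character values modulo a prime above p at the centraliser of a Sylow subgroup

Restricted to the p-regular elements centralising a Sylow subgroup, the central character of an
irreducible character of degree prime to p behaves like a homomorphism modulo the prime.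
-/

set_option autoImplicit false
set_option linter.unusedSectionVars false

namespace Cfsg.Agent.Lib.CanonicalExt

open Cfsg Cfsg.Agent.Lib Cfsg.Agent.Lib.Blocks MonoidAlgebra
open scoped Classical

universe u

variable {M : Ideal AlgInt} [M.IsPrime] {p : ℕ} [Fact p.Prime]

/-- The image in the residue field of a local integer. -/
noncomputable def red (M : Ideal AlgInt) [M.IsPrime] (z : ℂ) : Residue M :=
  if h : MemLocalRing M z then residue M ⟨z, h⟩ else 0

theorem red_of_mem {z : ℂ} (h : z ∈ localRing M) : red M z = residue M ⟨z, h⟩ :=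
  dif_pos (mem_localRing.1 h)

theorem red_natCast (n : ℕ) : red M (n : ℂ) = (n : Residue M) := by
  rw [red_of_mem (natCast_mem_localRing n), ← map_natCast (residue M) n]
  exact congrArg (residue M) (Subtype.ext (by simp))

theorem red_one : red M 1 = 1 := by
  simpa using red_natCast (M := M) 1

theorem red_mul {z w : ℂ} (hz : z ∈ localRing M) (hw : w ∈ localRing M) :
    red M (z * w) = red M z * red M w := by
  rw [red_of_mem hz, red_of_mem hw, red_of_mem (mul_mem hz hw), ← map_mul]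
  rfl

theorem red_sum {ι : Type*} (s : Finset ι) {f : ι → ℂ} (h : ∀ i ∈ s, f i ∈ localRing M) :
    red M (∑ i ∈ s, f i) = ∑ i ∈ s, red M (f i) := by
  induction s using Finset.induction_on with
  | empty => simpa using red_natCast (M := M) 0
  | @insert i s hi ih =>
    have h1 := h i (Finset.mem_insert_self i s)
    have h2 : ∑ j ∈ s, f j ∈ localRing M :=
      sum_mem fun j hj => h j (Finset.mem_insert_of_mem hj)
    rw [Finset.sum_insert hi, Finset.sum_insert hi, ← ih fun j hj => h j (Finset.mem_insert_of_mem hj),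
      red_of_mem h1, red_of_mem h2, red_of_mem (add_mem h1 h2), ← map_add]
    rfl

theorem red_eq_iff {z w : ℂ} (hz : z ∈ localRing M) (hw : w ∈ localRing M) :
    red M z = red M w ↔ MemLocalIdeal M (z - w) := by
  rw [red_of_mem hz, red_of_mem hw, residue_eq_iff]

theorem root_mem {ζ : ℂ} {n : ℕ} (hn : 0 < n) (h : ζ ^ n = 1) : ζ ∈ localRing M :=
  isIntegral_mem_localRing (IsIntegral.of_pow hn (h ▸ isIntegral_one))

theorem red_pow {z : ℂ} (hz : z ∈ localRing M) (n : ℕ) : red M (z ^ n) = red M z ^ n := by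
  induction n with
  | zero => simp [red_one]
  | succ n ih => rw [pow_succ, pow_succ, red_mul (pow_mem hz n) hz, ih]

/-- A root of unity of order prime to p congruent to one is one. -/
theorem eq_one_of_red_eq_one (hM : IsPModular p M) {ζ : ℂ} {n : ℕ} (hn : ¬ p ∣ n)
    (h : ζ ^ n = 1) (h1 : red M ζ = 1) : ζ = 1 := by
  by_contra hne
  haveI := charP_residue hM
  have hn0 : 0 < n := Nat.pos_of_ne_zero fun e => hn (e ▸ dvd_zero p)
  have hz := root_mem (M := M) hn0 h
  have hs : ∑ i ∈ Finset.range n, ζ ^ i = 0 := by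
    have h2 := geom_sum_mul ζ n
    rw [h, sub_self] at h2
    exact (mul_eq_zero.1 h2).resolve_right (sub_ne_zero.2 hne)
  have h3 := red_sum (M := M) (Finset.range n) (f := fun i => ζ ^ i) fun i _ => pow_mem hz i
  rw [hs, Finset.sum_congr rfl (g := fun _ => (1 : Residue M)) fun i _ => by rw [red_pow hz, h1, one_pow],
    Finset.sum_const, Finset.card_range, nsmul_one] at h3
  have h4 : red M (0 : ℂ) = 0 := by simpa using red_natCast (M := M) 0
  rw [h4] at h3
  exact hn ((CharP.cast_eq_zero_iff (Residue M) p n).1 h3.symm)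

/-- Roots of unity of prime order other than p in the residue field lift. -/
theorem exists_root_lift (hM : IsPModular p M) {r : ℕ} (hr : r.Prime) (hrp : r ≠ p)
    {x : Residue M} (hx : x ^ r = 1) : ∃ ζ : ℂ, ζ ^ r = 1 ∧ red M ζ = x := by
  haveI : NeZero r := ⟨hr.ne_zero⟩
  obtain ⟨ζ, hζ⟩ : ∃ ζ : ℂ, IsPrimitiveRoot ζ r := ⟨_, Complex.isPrimitiveRoot_exp r hr.ne_zero⟩
  have hz := root_mem (M := M) hr.pos hζ.pow_eq_one
  have hne : red M ζ ≠ 1 := fun h => hζ.ne_one hr.one_lt (eq_one_of_red_eq_one hM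
    (fun hd => hrp ((Nat.prime_dvd_prime_iff_eq (Fact.out : p.Prime) hr).1 hd).symm) hζ.pow_eq_one h)
  have hp1 : red M ζ ^ r = 1 := by rw [← red_pow hz, hζ.pow_eq_one, red_one]
  haveI := Fact.mk hr
  have hprim : IsPrimitiveRoot (red M ζ) r := by
    rw [← orderOf_eq_prime hp1 hne]
    exact IsPrimitiveRoot.orderOf _
  obtain ⟨i, -, hi⟩ := hprim.eq_pow_of_pow_eq_one hx
  exact ⟨ζ ^ i, by rw [← pow_mul, mul_comm, pow_mul, hζ.pow_eq_one, one_pow],
    by rw [red_pow hz, hi]⟩

variable {H : Type u} [Group H] [Finite H]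

/-- The value of an irreducible character in the residue field. -/
noncomputable def cv (M : Ideal AlgInt) [M.IsPrime] (χ : IrrCharacter H) (g : H) : Residue M :=
  red M ((χ : H → ℂ) g)

theorem val_mem (χ : IrrCharacter H) (g : H) : (χ : H → ℂ) g ∈ localRing M :=
  isIntegral_mem_localRing (Chars.isCharacter_isIntegral (Chars.irr_isCharacter χ) g)

theorem cv_eq_iff (χ : IrrCharacter H) (g h : H) :
    cv M χ g = cv M χ h ↔ MemLocalIdeal M ((χ : H → ℂ) g - (χ : H → ℂ) h) :=
  red_eq_iff (val_mem χ g) (val_mem χ h)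

/-- The p-part of an element does not matter in the residue field. -/
theorem cv_regular_part (hM : IsPModular p M) (χ : IrrCharacter H) (g : H) :
    ∃ m : ℕ, ¬ p ∣ orderOf (g ^ m) ∧ cv M χ g = cv M χ (g ^ m) := by
  obtain ⟨m, n, j, h1, h2, h3⟩ := BlockCongr.exists_split (Fact.out : p.Prime) g
  exact ⟨m, h3, (cv_eq_iff χ _ _).2 (BlockCongr.char_congr_of_pow hM (Chars.irr_isCharacter χ) h1 h2)⟩

/-- The conjugates of `b` centralising `S`. -/
noncomputable def fixedClass [Fintype H] (S : Subgroup H) (b : H) : Finset H :=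
  Finset.univ.filter fun x => IsConj b x ∧ x ∈ Subgroup.centralizer (S : Set H)

theorem mem_fixedClass [Fintype H] {S : Subgroup H} {b x : H} :
    x ∈ fixedClass S b ↔ IsConj b x ∧ x ∈ Subgroup.centralizer (S : Set H) := by
  simp [fixedClass]

/-- An invariant sum over a class reduces to the elements centralising a p-subgroup. -/
theorem sum_class_eq [Fintype H] (hM : IsPModular p M) {S : Subgroup H} (hS : IsPGroup p S)
    (b : H) (F : H → Residue M) (hF : ∀ s ∈ S, ∀ x, F (s * x * s⁻¹) = F x) :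
    ∑ x, (if IsConj b x then F x else 0) = ∑ x ∈ fixedClass S b, F x := by
  haveI := charP_residue hM
  letI act : MulAction S H :=
    { smul := fun s x => (s : H) * x * (s : H)⁻¹
      one_smul := fun x => by show ((1 : S) : H) * x * ((1 : S) : H)⁻¹ = x; simp
      mul_smul := fun s t x => by
        show ((s * t : S) : H) * x * ((s * t : S) : H)⁻¹ =
          (s : H) * ((t : H) * x * (t : H)⁻¹) * (s : H)⁻¹
        rw [Subgroup.coe_mul, mul_inv_rev]; simp [mul_assoc] }
  rw [SteinbergBlock.sum_eq_sum_fixed hS (fun x : H => if IsConj b x then F x else 0) fun s x => by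
    show (if IsConj b ((s : H) * x * (s : H)⁻¹) then F ((s : H) * x * (s : H)⁻¹) else 0) = _
    rw [hF s s.2 x]
    refine if_congr ⟨fun h => h.trans (isConj_iff.2 ⟨(s : H)⁻¹, by group⟩),
      fun h => h.trans (isConj_iff.2 ⟨(s : H), rfl⟩)⟩ rfl rfl]
  rw [Finset.sum_ite, Finset.sum_const_zero, add_zero, Finset.filter_filter]
  refine Finset.sum_congr (Finset.ext fun x => ?_) fun _ _ => rfl
  simp only [Finset.mem_filter, Finset.mem_univ, true_and, mem_fixedClass]
  constructor
  · rintro ⟨hx, hc⟩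
    refine ⟨hc, Subgroup.mem_centralizer_iff.2 fun s hs => ?_⟩
    exact mul_inv_eq_iff_eq_mul.1 (hx ⟨s, hs⟩)
  · rintro ⟨hc, hx⟩
    refine ⟨fun s => ?_, hc⟩
    show (s : H) * x * (s : H)⁻¹ = x
    rw [mul_inv_eq_iff_eq_mul]
    exact Subgroup.mem_centralizer_iff.1 hx s s.2

/-- The number of conjugates centralising a p-subgroup. -/
theorem card_fixedClass [Fintype H] (hM : IsPModular p M) {S : Subgroup H} (hS : IsPGroup p S)
    (b : H) :
    ((fixedClass S b).card : Residue M) =
      ((Subgroup.centralizer ({b} : Set H)).index : Residue M) := by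
  have h := sum_class_eq hM hS b (fun _ => (1 : Residue M)) fun _ _ _ => rfl
  rw [Finset.sum_const, nsmul_one, ← Finset.sum_filter, Finset.sum_const, nsmul_one] at h
  rw [← h, ← natCard_isConj, Nat.card_eq_fintype_card, Fintype.card_subtype]

/-- The product formula at the centraliser of a p-subgroup. -/
theorem mul_congr [Fintype H] (hM : IsPModular p M) (χ : IrrCharacter H) {S : Subgroup H}
    (hS : IsPGroup p S) {a : H} (ha : a ∈ Subgroup.centralizer (S : Set H)) (b : H) :
    ((fixedClass S b).card : Residue M) * (cv M χ b * cv M χ a) =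
      cv M χ 1 * ∑ x ∈ fixedClass S b, cv M χ (x * a) := by
  have hne := Chars.irr_apply_one_ne_zero χ
  have key : ((Subgroup.centralizer ({b} : Set H)).index : ℂ) *
      ((χ : H → ℂ) b * (χ : H → ℂ) a) =
      (χ : H → ℂ) 1 * ∑ x, if IsConj b x then (χ : H → ℂ) (x * a) else 0 := by
    have h := omega_mul χ (classSum_mem_center b) (MonoidAlgebra.single a 1)
    rw [omega_classSum (Chars.irr_isClassFunction χ), omega_single, one_mul, omega_eq_sum] at h
    simp only [coeff_mul_single_apply, mul_one, coeff_classSum, centralChar, ite_mul, one_mul,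
      zero_mul] at h
    have h2 : ∑ x, (if IsConj b (x * a⁻¹) then (χ : H → ℂ) x / (χ : H → ℂ) 1 else 0) =
        ∑ x, (if IsConj b x then (χ : H → ℂ) (x * a) / (χ : H → ℂ) 1 else 0) :=
      Fintype.sum_equiv (Equiv.mulRight a⁻¹) _ _ fun x => by simp
    rw [h2] at h
    have h3 : ∑ x, (if IsConj b x then (χ : H → ℂ) (x * a) / (χ : H → ℂ) 1 else 0) =
        (∑ x, if IsConj b x then (χ : H → ℂ) (x * a) else 0) / (χ : H → ℂ) 1 := by
      rw [Finset.sum_div]
      refine Finset.sum_congr rfl fun x _ => ?_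
      split_ifs <;> simp
    rw [h3] at h
    field_simp at h
    linear_combination -h
  have hmem : ∀ x, (if IsConj b x then (χ : H → ℂ) (x * a) else 0) ∈ localRing M := fun x => by
    split_ifs
    · exact val_mem χ _
    · exact zero_mem _
  have h := congrArg (red M) key
  rw [red_mul (natCast_mem_localRing _) (mul_mem (val_mem χ b) (val_mem χ a)),
    red_mul (val_mem χ b) (val_mem χ a), red_mul (val_mem χ 1) (sum_mem fun x _ => hmem x),
    red_sum _ fun x _ => hmem x, red_natCast, ← card_fixedClass hM hS b] at h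
  refine h.trans (congrArg (cv M χ 1 * ·) ?_)
  rw [← sum_class_eq hM hS b (fun x => cv M χ (x * a)) fun s hs x => ?_]
  · refine Finset.sum_congr rfl fun x _ => ?_
    rw [apply_ite (red M)]
    refine if_congr Iff.rfl rfl ?_
    simpa using red_natCast (M := M) 0
  · show red M _ = red M _
    congr 1
    have hsa : a * s = s * a := (Subgroup.mem_centralizer_iff.1 ha s hs).symm
    rw [show s * x * s⁻¹ * a = s * (x * a) * s⁻¹ by
      rw [mul_assoc (s * x), show s⁻¹ * a = a * s⁻¹ by
        rw [inv_mul_eq_iff_eq_mul, ← mul_assoc, ← hsa, mul_inv_cancel_right]]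
      group]
    exact Chars.irr_isClassFunction χ (x * a) s

/-- The p-regular elements of the centraliser of a Sylow subgroup form a subgroup of order prime
to p. -/
theorem exists_regular_subgroup (Q : Sylow p H) :
    ∃ O : Subgroup H, ¬ p ∣ Nat.card O ∧ ∀ x : H,
      x ∈ O ↔ x ∈ Subgroup.centralizer ((Q : Subgroup H) : Set H) ∧ ¬ p ∣ orderOf x := by
  set C := Subgroup.centralizer ((Q : Subgroup H) : Set H) with hC
  obtain ⟨P⟩ : Nonempty (Sylow p C) := inferInstance
  have hPQ : ∀ x ∈ (P : Subgroup C), (x : H) ∈ (Q : Subgroup H) := by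
    intro x hx
    have hsup : IsPGroup p ((Q : Subgroup H) ⊔ (P : Subgroup C).map C.subtype : Subgroup H) := by
      refine Q.2.to_sup_of_normal_left' (P.2.map _) ?_
      rintro _ ⟨y, -, rfl⟩
      exact Subgroup.centralizer_le_normalizer _ y.2
    rw [← Q.3 hsup le_sup_left]
    exact Subgroup.mem_sup_right ⟨x, hx, rfl⟩
  have hcent : Subgroup.normalizer ((P : Subgroup C) : Set C) ≤
      Subgroup.centralizer ((P : Subgroup C) : Set C) := by
    intro g _
    refine Subgroup.mem_centralizer_iff.2 fun x hx => Subtype.ext ?_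
    exact Subgroup.mem_centralizer_iff.1 g.2 x (hPQ x hx)
  have hK := MonoidHom.ker_transferSylow_isComplement' P hcent
  set K := (MonoidHom.transferSylow P hcent).ker with hKdef
  have hcard : Nat.card K = (P : Subgroup C).index := by
    exact hK.index_eq_card.symm
  have hnd : ¬ p ∣ Nat.card K := hcard ▸ P.not_dvd_index
  refine ⟨K.map C.subtype, by rwa [Subgroup.card_map_of_injective C.subtype_injective],
    fun x => ⟨?_, fun hx => ?_⟩⟩
  · rintro ⟨y, hy, rfl⟩
    refine ⟨y.2, fun hd => hnd (hd.trans ?_)⟩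
    rw [Subgroup.subtype_apply, Subgroup.orderOf_coe]
    exact Subgroup.orderOf_dvd_natCard K hy
  · refine ⟨⟨x, hx.1⟩, ?_, rfl⟩
    rw [SetLike.mem_coe, MonoidHom.mem_ker]
    refine orderOf_eq_one_iff.1 (Nat.eq_one_of_dvd_coprimes ?_
      (orderOf_map_dvd (MonoidHom.transferSylow P hcent) ⟨x, hx.1⟩) (orderOf_dvd_natCard _))
    obtain ⟨k, hk⟩ := IsPGroup.iff_card.1 P.2
    rw [hk]
    refine (Nat.Coprime.pow_left k ((Fact.out : p.Prime).coprime_iff_not_dvd.2 ?_)).symm
    rw [← Subgroup.orderOf_coe]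
    exact hx.2

/-- Twisting an extension by a linear character so that it becomes congruent to its degree on the
p-regular elements centralising a Sylow subgroup. -/
theorem exists_twist [Fintype H] (hM : IsPModular p M) (Q : Sylow p H) (H₀ : Subgroup H)
    [H₀.Normal] {r : ℕ} (hr : r.Prime) (hrp : r ≠ p) (hidx : H₀.index = r) {t : H}
    (ht : t ∈ Subgroup.centralizer ((Q : Subgroup H) : Set H)) (htreg : ¬ p ∣ orderOf t)
    (ht₀ : t ∉ H₀) (φ : IrrCharacter H) (hd : cv M φ 1 ≠ 0)
    (h₀ : ∀ y ∈ H₀, y ∈ Subgroup.centralizer ((Q : Subgroup H) : Set H) → ¬ p ∣ orderOf y →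
      cv M φ y = cv M φ 1) :
    ∃ μ : H →* ℂˣ, (∀ y ∈ H₀, μ y = 1) ∧ (∀ y, (μ y : ℂ) ^ r = 1) ∧
      ∀ y ∈ Subgroup.centralizer ((Q : Subgroup H) : Set H), ¬ p ∣ orderOf y →
        red M ((μ y : ℂ) * (φ : H → ℂ) y) = cv M φ 1 := by
  haveI := charP_residue hM
  haveI := Fact.mk hr
  obtain ⟨O, hOp, hO⟩ := exists_regular_subgroup Q
  set f : H → Residue M := fun x => cv M φ x / cv M φ 1 with hf
  have hcl : IsClassFunction H (φ : H → ℂ) := Chars.irr_isClassFunction φ
  have hid : ∀ a ∈ Subgroup.centralizer ((Q : Subgroup H) : Set H), ∀ b : H,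
      ((fixedClass (Q : Subgroup H) b).card : Residue M) * (f b * f a) =
        ∑ x ∈ fixedClass (Q : Subgroup H) b, f (x * a) := by
    intro a ha b
    have h := mul_congr hM φ Q.2 ha b
    simp only [hf, ← Finset.sum_div]
    field_simp
    linear_combination h
  set S₀ : Finset H := Finset.univ.filter (· ∈ O ⊓ H₀) with hS₀
  have hf₀ : ∀ x ∈ O ⊓ H₀, f x = 1 := by
    intro x hx
    simp only [hf]
    rw [h₀ x hx.2 ((hO x).1 hx.1).1 ((hO x).1 hx.1).2, div_self hd]
  have hsum : ∀ a ∈ Subgroup.centralizer ((Q : Subgroup H) : Set H),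
      ∑ x ∈ S₀, f (x * a) = (S₀.card : Residue M) * f a := by
    intro a ha
    rw [← nsmul_eq_mul, ← Finset.sum_const]
    rw [← Finset.sum_fiberwise_of_maps_to (t := S₀.image ConjClasses.mk) (g := ConjClasses.mk)
        (fun x hx => Finset.mem_image_of_mem _ hx) fun x => f (x * a),
      ← Finset.sum_fiberwise_of_maps_to (t := S₀.image ConjClasses.mk) (g := ConjClasses.mk)
        (fun x hx => Finset.mem_image_of_mem _ hx) fun _ => f a]
    refine Finset.sum_congr rfl fun c hc => ?_
    obtain ⟨b, hb, rfl⟩ := Finset.mem_image.1 hc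
    rw [hS₀, Finset.mem_filter] at hb
    have hfib : S₀.filter (fun x => ConjClasses.mk x = ConjClasses.mk b) =
        fixedClass (Q : Subgroup H) b := by
      ext x
      simp only [hS₀, Finset.mem_filter, Finset.mem_univ, true_and, mem_fixedClass,
        ConjClasses.mk_eq_mk_iff_isConj]
      constructor
      · rintro ⟨hx, hxb⟩
        exact ⟨hxb.symm, ((hO x).1 hx.1).1⟩
      · rintro ⟨hbx, hx⟩
        obtain ⟨c, rfl⟩ := isConj_iff.1 hbx
        refine ⟨⟨(hO _).2 ⟨hx, ?_⟩, ‹H₀.Normal›.conj_mem b hb.2.2 c⟩, hbx.symm⟩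
        rw [show c * b * c⁻¹ = MulAut.conj c b from rfl, MulEquiv.orderOf_eq]
        exact ((hO b).1 hb.2.1).2
    rw [hfib, Finset.sum_const, nsmul_eq_mul, ← hid a ha b, hf₀ b hb.2, one_mul]
  have hS0 : (S₀.card : Residue M) ≠ 0 := by
    rw [Ne, CharP.cast_eq_zero_iff (Residue M) p]
    intro hd'
    apply hOp
    refine hd'.trans ?_
    rw [hS₀, ← Fintype.card_subtype, ← Nat.card_eq_fintype_card]
    exact Subgroup.card_dvd_of_le (inf_le_left : O ⊓ H₀ ≤ O)
  have htrans : ∀ a ∈ Subgroup.centralizer ((Q : Subgroup H) : Set H), ∀ o ∈ O ⊓ H₀,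
      f (o * a) = f a := by
    intro a ha o ho
    refine mul_left_cancel₀ hS0 ?_
    rw [← hsum (o * a) (mul_mem ((hO o).1 ho.1).1 ha), ← hsum a ha]
    refine Finset.sum_equiv (Equiv.mulRight o) (fun x => ?_) fun x _ => by simp [mul_assoc]
    simp only [hS₀, Finset.mem_filter, Finset.mem_univ, true_and, Equiv.coe_mulRight]
    exact ⟨fun h => mul_mem h ho, fun h => by simpa using mul_mem h (inv_mem ho)⟩
  have htO : t ∈ O := (hO t).2 ⟨ht, htreg⟩
  have hcyc : IsCyclic (H ⧸ H₀) := isCyclic_of_prime_card (p := r) hidx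
  have hcomm : ∀ c x : H, c * x * c⁻¹ * x⁻¹ ∈ H₀ := by
    intro c x
    rw [← QuotientGroup.eq_one_iff]
    have := @IsCyclic.commGroup (H ⧸ H₀) _ hcyc
    simp only [QuotientGroup.mk_mul, QuotientGroup.mk_inv]
    rw [mul_comm' (c : H ⧸ H₀)]
    group
  have hcnz : ((fixedClass (Q : Subgroup H) t).card : Residue M) ≠ 0 := by
    rw [card_fixedClass hM Q.2, Ne, CharP.cast_eq_zero_iff (Residue M) p]
    intro hd'
    refine Q.not_dvd_index (hd'.trans (Subgroup.index_dvd_of_le fun s hs => ?_))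
    exact Subgroup.mem_centralizer_singleton_iff.2 (Subgroup.mem_centralizer_iff.1 ht s hs)
  have hmul : ∀ a ∈ Subgroup.centralizer ((Q : Subgroup H) : Set H), f (t * a) = f t * f a := by
    intro a ha
    refine mul_left_cancel₀ hcnz ?_
    rw [hid a ha t, Finset.sum_congr rfl (g := fun _ => f (t * a)) ?_, Finset.sum_const,
      nsmul_eq_mul]
    intro x hx
    obtain ⟨htx, hxC⟩ := mem_fixedClass.1 hx
    obtain ⟨c, rfl⟩ := isConj_iff.1 htx
    have ho : c * t * c⁻¹ * t⁻¹ ∈ O ⊓ H₀ := by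
      refine Subgroup.mem_inf.2 ⟨O.mul_mem ((hO _).2 ⟨hxC, ?_⟩) (O.inv_mem htO), hcomm c t⟩
      rw [show c * t * c⁻¹ = MulAut.conj c t from rfl, MulEquiv.orderOf_eq]
      exact htreg
    rw [← htrans (t * a) (mul_mem ht ha) _ ho]
    congr 1
    group
  have hpow : ∀ i : ℕ, f (t ^ i) = f t ^ i := by
    intro i
    induction i with
    | zero => simp [hf, div_self hd]
    | succ i ih => rw [pow_succ', hmul _ (pow_mem ht i), ih, pow_succ']
  have hroot : f t ^ r = 1 := by
    rw [← hpow]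
    exact hf₀ _ ⟨pow_mem htO r, hidx ▸ H₀.pow_index_mem t⟩
  obtain ⟨ζ, hζ, hζf⟩ := exists_root_lift hM hr hrp hroot
  have hord : orderOf (t : H ⧸ H₀) = r := by
    refine orderOf_eq_prime ?_ (fun h => ht₀ ((QuotientGroup.eq_one_iff t).1 h))
    rw [← QuotientGroup.mk_pow, QuotientGroup.eq_one_iff]
    exact hidx ▸ H₀.pow_index_mem t
  have hgen : ∀ q : H ⧸ H₀, q ∈ Subgroup.zpowers (t : H ⧸ H₀) := by
    intro q
    have htop : Subgroup.zpowers (t : H ⧸ H₀) = ⊤ :=
      Subgroup.eq_top_of_card_eq _ (by rw [Nat.card_zpowers, hord, ← Subgroup.index_eq_card, hidx])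
    rw [htop]; trivial
  have hζ0 : ζ ≠ 0 := fun h => by
    rw [h, zero_pow hr.ne_zero] at hζ
    exact zero_ne_one hζ
  set ν : ℂˣ := (Units.mk0 ζ hζ0)⁻¹ with hν
  have hνr : ν ^ r = 1 := by
    rw [hν, inv_pow, inv_eq_one]
    exact Units.ext (by simpa using hζ)
  set μ : H →* ℂˣ := (monoidHomOfForallMemZpowers hgen (g' := ν)
    (hord.symm ▸ orderOf_dvd_of_pow_eq_one hνr)).comp (QuotientGroup.mk' H₀) with hμ
  have hμt : μ t = ν := monoidHomOfForallMemZpowers_apply_gen (g' := ν) hgen (hord.symm ▸ orderOf_dvd_of_pow_eq_one hνr)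
  have hμ₀ : ∀ y ∈ H₀, μ y = 1 := fun y hy => by
    rw [hμ, MonoidHom.comp_apply, QuotientGroup.mk'_apply, (QuotientGroup.eq_one_iff y).2 hy, map_one]
  refine ⟨μ, hμ₀, fun y => ?_, fun y hyC hyreg => ?_⟩
  · rw [← Units.val_pow_eq_pow_val, ← map_pow, hμ₀ _ (hidx ▸ H₀.pow_index_mem y), Units.val_one]
  obtain ⟨i, hi⟩ : ∃ i : ℕ, (t : H ⧸ H₀) ^ i = (y : H ⧸ H₀) := by
    obtain ⟨i, hi⟩ := (isOfFinOrder_of_finite (t : H ⧸ H₀)).mem_zpowers_iff_mem_range_orderOf.1 (hgen y) |> Finset.mem_image.1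
    exact ⟨i, hi.2⟩
  have ho : y * (t ^ i)⁻¹ ∈ O ⊓ H₀ := by
    refine Subgroup.mem_inf.2 ⟨O.mul_mem ((hO y).2 ⟨hyC, hyreg⟩) (O.inv_mem (pow_mem htO i)), ?_⟩
    rw [← QuotientGroup.eq_one_iff, QuotientGroup.mk_mul, QuotientGroup.mk_inv,
      QuotientGroup.mk_pow, hi, mul_inv_cancel]
  have hy : y = y * (t ^ i)⁻¹ * t ^ i := by group
  have hfy : f y = f t ^ i := by
    rw [hy, htrans _ (pow_mem ht i) _ ho, hpow]
  have hμy : μ y = ν ^ i := by
    rw [hy, map_mul, hμ₀ _ ho.2, one_mul, map_pow, hμt]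
  have hz := root_mem (M := M) hr.pos hζ
  have hzi : (ζ⁻¹ : ℂ) ∈ localRing M := root_mem hr.pos (by rw [inv_pow, hζ, inv_one])
  have hinv : red M (ζ⁻¹) * f t = 1 := by
    rw [← hζf, ← red_mul hzi hz, inv_mul_cancel₀ hζ0, red_one]
  rw [hμy, Units.val_pow_eq_pow_val, hν, Units.val_inv_eq_inv_val, Units.val_mk0,
    red_mul (pow_mem hzi i) (val_mem φ y), red_pow hzi]
  have hcy : red M ((φ : H → ℂ) y) = f y * cv M φ 1 := by
    show cv M φ y = _
    rw [hf]; field_simp
  rw [hcy, hfy, ← mul_assoc, ← mul_pow, hinv, one_pow, one_mul]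

end Cfsg.Agent.Lib.CanonicalExt
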