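import Cfsg.Agent.Lib.CanonicalExt.Good
import Cfsg.Agent.Lib.BrauerInd.Brauer
import Cfsg.Agent.Lib.BrauerInd.Nilpotent
import Cfsg.Agent.Lib.Supersolvable.Schmidt
import Cfsg.Agent.Lib.Transfer.Hall
import Cfsg.Agent.Lib.CharExt.Obstruction
import Mathlib

/-!
# Existence of good extensions
-/

set_option autoImplicit false
set_option linter.unusedSectionVars false

namespace Cfsg.Agent.Lib.CanonicalExt

open Cfsg Cfsg.Agent.Lib
open scoped Classical ComplexConjugate

universe u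

attribute [-instance] MonoidHom.instPow MonoidHom.mul instOneMonoidHom MonoidHom.instCommMonoid
  MonoidHom.instInv MonoidHom.instDiv

variable {G : Type u} [Group G] [Finite G]

namespace Setting

variable {T : Setting G}

theorem Qb_le_of_le {H : Subgroup G} (h : T.N ≤ H) : T.Qb ≤ H := T.Qb_le.trans h

/-- The image of Q is a Sylow subgroup of any overgroup of N of index prime to p over N. -/
theorem exists_sylow {H : Subgroup G} (h : T.N ≤ H) (hidx : ¬ T.p ∣ T.N.relIndex H) :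
    ∃ Q' : Sylow T.p H, (Q' : Subgroup H) = T.Qb.subgroupOf H := by
  have hP : IsPGroup T.p (T.Qb.subgroupOf H) :=
    T.isPGroup_Qb.of_equiv (Subgroup.subgroupOfEquivOfLe (Qb_le_of_le h)).symm
  have hidx' : ¬ T.p ∣ (T.Qb.subgroupOf H).index := by
    show ¬ T.p ∣ T.Qb.relIndex H
    rw [← Subgroup.relIndex_mul_relIndex T.Qb T.N H T.Qb_le h, T.hp.dvd_mul, not_or]
    refine ⟨?_, hidx⟩
    show ¬ T.p ∣ (T.Qb.subgroupOf T.N).index
    rw [show T.Qb.subgroupOf T.N = (T.Q : Subgroup T.N) from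
      Subgroup.comap_map_eq_self_of_injective T.N.subtype_injective _]
    exact T.Q.not_dvd_index
  exact ⟨hP.toSylow hidx', rfl⟩

theorem mem_centralizer_sylow {H : Subgroup G} (h : T.N ≤ H) {Q' : Sylow T.p H}
    (hQ : (Q' : Subgroup H) = T.Qb.subgroupOf H) (y : H) :
    y ∈ Subgroup.centralizer ((Q' : Subgroup H) : Set H) ↔
      (y : G) ∈ Subgroup.centralizer (T.Qb : Set G) := by
  rw [hQ]
  constructor
  · intro hy
    refine Subgroup.mem_centralizer_iff.2 fun q hq => ?_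
    exact congrArg Subtype.val (Subgroup.mem_centralizer_iff.1 hy ⟨q, Qb_le_of_le h hq⟩ hq)
  · intro hy
    exact Subgroup.mem_centralizer_iff.2 fun q hq =>
      Subtype.ext (Subgroup.mem_centralizer_iff.1 hy q hq)

theorem relIndex_of_normal_sup (H K S : Subgroup G) (hS : H ⊔ K = S) [(K.subgroupOf S).Normal] :
    K.relIndex S = K.relIndex H := by
  have hH : H ≤ S := hS ▸ le_sup_left
  have hK : K ≤ S := hS ▸ le_sup_right
  have h := Subgroup.relIndex_sup_right (H.subgroupOf S) (K.subgroupOf S)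
  rw [← Subgroup.subgroupOf_sup hH hK, hS, Subgroup.subgroupOf_self, Subgroup.relIndex_top_right,
    Subgroup.relIndex_subgroupOf hH] at h
  exact h

theorem det_order_of_pow {H : Type u} [Group H] (f : H →* ℂˣ) {r : ℕ} (hr : ¬ T.p ∣ r) (g : H)
    (h : ¬ T.p ∣ orderOf (f (g ^ r))) : ¬ T.p ∣ orderOf (f g) := by
  intro hd
  apply h
  rw [map_pow]
  have h1 : orderOf (f g) ∣ orderOf (f g ^ r) * r := orderOf_dvd_of_pow_eq_one
    (by rw [mul_comm, pow_mul, pow_orderOf_eq_one])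
  exact ((T.hp.coprime_iff_not_dvd.2 hr)).dvd_of_dvd_mul_right (hd.trans h1)

/-- Extending through a prime index different from p. -/
theorem exists_good_rStep {H₀ H : Subgroup G} {χ₀ : IrrCharacter H₀} (h₀ : T.Good H₀ χ₀)
    (hle : H₀ ≤ H) (hn : ∀ h ∈ H, ∀ y ∈ H₀, h * y * h⁻¹ ∈ H₀) {r : ℕ} (hr : r.Prime)
    (hrp : r ≠ T.p) (hidx : H₀.relIndex H = r) (hK : H ≤ T.K) (hp' : ¬ T.p ∣ T.N.relIndex H) :
    ∃ χ : IrrCharacter H, T.Good H χ := by
  cases nonempty_fintype G
  have hNH : T.N ≤ H := h₀.le.trans hle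
  let A : Subgroup H := H₀.subgroupOf H
  haveI : A.Normal := ⟨fun y hy g => hn g g.2 y hy⟩
  have hA : A.index = r := hidx
  haveI := Fact.mk hr
  haveI : IsCyclic (H ⧸ A) := isCyclic_of_prime_card (p := r) hA
  let e : A ≃* H₀ := Subgroup.subgroupOfEquivOfLe hle
  let ϑ : A → ℂ := fun a => (χ₀ : H₀ → ℂ) (e a)
  have hϑ : IsIrrCharacter A ϑ := Clifford.isIrrCharacter_comp_equiv e χ₀.2
  obtain ⟨k, σ, hσ, hσϑ⟩ := hϑ
  haveI := hσ
  have hinv : ∀ (g : H) (x : A), ϑ ⟨g * x * g⁻¹, Subgroup.Normal.conj_mem ‹A.Normal› x x.2 g⟩ = ϑ x :=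
    fun g x => h₀.invariant (g : G) (fun y hy => hn g g.2 y hy) (e x)
  obtain ⟨φ, hφ, hφA⟩ := CharExt.exists_irrCharacter_of_extension A σ ϑ hσϑ
    (CharExt.exists_extension_of_isCyclic A σ
      (CharExt.projG_surjective_of_char_invariant A σ ϑ hσϑ hinv))
  let φ' : IrrCharacter H := ⟨φ, hφ⟩
  have hφN : ∀ n : T.N, (φ' : H → ℂ) ⟨n, hNH n.2⟩ = (T.θ : T.N → ℂ) n := fun n =>
    (hφA ⟨⟨n, hNH n.2⟩, h₀.le n.2⟩).trans (h₀.ext n)
  obtain ⟨Q', hQ'⟩ := exists_sylow hNH hp'
  -- an element of the centraliser of Q outside H₀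
  obtain ⟨h, hh, hh₀⟩ : ∃ h ∈ H, h ∉ H₀ := by
    by_contra! hc
    exact hr.ne_one (hidx ▸ Subgroup.relIndex_eq_one.2 hc)
  obtain ⟨a, ha, c, hc, hac⟩ := Subgroup.mem_sup_of_normal_left.1 (hK hh)
  have hcH : c ∈ H := by
    rw [show c = a⁻¹ * h by rw [← hac]; group]
    exact mul_mem (inv_mem (hNH ha)) hh
  have hc₀ : c ∉ H₀ := fun h1 => hh₀ (hac ▸ mul_mem (h₀.le ha) h1)
  obtain ⟨m, n, j, h1, h2, h3⟩ := BlockCongr.exists_split T.hp (⟨c, hcH⟩ : H)
  have hn₀ : (⟨c, hcH⟩ : H) ^ n ∈ A := by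
    rw [← QuotientGroup.eq_one_iff, ← orderOf_eq_one_iff]
    refine Nat.eq_one_of_dvd_coprimes (Nat.Coprime.pow_left j ((Nat.coprime_primes T.hp hr).2
      (Ne.symm hrp))) ?_ (hA ▸ orderOf_dvd_natCard _)
    exact orderOf_dvd_of_pow_eq_one (by rw [← QuotientGroup.mk_pow, h1, QuotientGroup.mk_one])
  obtain ⟨μ, hμ₀, hμr, hμ⟩ := exists_twist T.hM Q' A hr hrp hA
    ((mem_centralizer_sylow hNH hQ' _).2 (by
      rw [Subgroup.coe_pow]; exact Subgroup.pow_mem _ hc m))
    h3 (fun hm => hc₀ (by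
      have h4 := A.mul_mem hm hn₀
      rwa [← pow_add, h2] at h4)) φ' (by rw [cv_one hNH hφN]; exact T.cv_one_ne_zero)
    (fun y hy hyC hyreg => by
      show red T.M (φ y) = red T.M (φ 1)
      rw [show φ y = ϑ ⟨y, hy⟩ from hφA ⟨y, hy⟩, show φ 1 = ϑ 1 from hφA 1]
      refine (h₀.congr (e ⟨y, hy⟩) ?_ ((mem_centralizer_sylow hNH hQ' y).1 hyC)).trans
        (congrArg (red T.M) ?_)
      · rw [MulEquiv.orderOf_eq, Subgroup.orderOf_mk]
        exact hyreg
      · simp only [ϑ, map_one])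
  have hN₀ : ∀ n : T.N, (⟨n, hNH n.2⟩ : H) ∈ A := fun n => h₀.le n.2
  have hext : ∀ n : T.N, (μ ⟨n, hNH n.2⟩ : ℂ) * (φ' : H → ℂ) ⟨n, hNH n.2⟩ =
      (T.θ : T.N → ℂ) n := fun n => by
    rw [hμ₀ _ (hN₀ n), Units.val_one, one_mul, hφN]
  have hirr : IsIrrCharacter H (fun g => (μ g : ℂ) * (φ' : H → ℂ) g) := by
    have hc := Chars.isCharacter_mul (Chars.isCharacter_hom μ) (Chars.irr_isCharacter φ')
    refine (Chars.isIrrCharacter_iff_classInner_eq_one hc).2 ?_
    rw [← Chars.classInner_irr_self φ']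
    simp only [classInner]
    refine congrArg _ (Finset.sum_congr rfl fun g _ => ?_)
    have hnorm : (μ g : ℂ) * conj (μ g : ℂ) = 1 := by
      rw [Complex.mul_conj, Complex.normSq_eq_norm_sq,
        Chars.norm_eq_one_of_pow_eq_one hr.pos (hμr g)]
      simp
    simp only [Pi.mul_apply, map_mul]
    linear_combination ((φ' : H → ℂ) g * conj ((φ' : H → ℂ) g)) * hnorm
  refine ⟨⟨_, hirr⟩, hNH, hext, fun g => ?_, fun y hy hyC => ?_⟩
  · show ¬ T.p ∣ orderOf (DetHom.det (fun g => (μ g : ℂ) * (φ' : H → ℂ) g) g)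
    refine det_order_of_pow (T := T) (r := r) _
      (fun hd => hrp ((Nat.prime_dvd_prime_iff_eq T.hp hr).1 hd).symm) g ?_
    have hgA : g ^ r ∈ A := hA ▸ A.pow_index_mem g
    rw [DetHom.det_hom_mul μ (Chars.irr_isCharacter φ')
      (d := charDegree (T.θ : T.N → ℂ)) (by
        rw [apply_one hNH hφN, BlockCongr.charDegree_isCharacter (Chars.irr_isCharacter T.θ)]),
      MonoidHom.mul_apply, MonoidHom.pow_apply, hμ₀ _ hgA, one_pow, one_mul]
    have h4 := DetHom.det_comp A.subtype (Chars.irr_isCharacter φ')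
    rw [show (fun x : A => (φ' : H → ℂ) (A.subtype x)) = fun x => (χ₀ : H₀ → ℂ) (e.toMonoidHom x)
      from funext fun x => hφA x,
      DetHom.det_comp e.toMonoidHom (Chars.irr_isCharacter χ₀)] at h4
    rw [show DetHom.det (φ' : H → ℂ) (g ^ r) = DetHom.det (χ₀ : H₀ → ℂ) (e ⟨g ^ r, hgA⟩) from
      (congrArg (fun f : A →* ℂˣ => f ⟨g ^ r, hgA⟩) h4).symm]
    exact h₀.det _
  · refine (hμ y ((mem_centralizer_sylow hNH hQ' y).2 hyC) hy).trans ?_
    show red T.M ((φ' : H → ℂ) 1) = red T.M ((μ 1 : ℂ) * (φ' : H → ℂ) 1)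
    rw [map_one, Units.val_one, one_mul]

theorem Good.of_eq {H H' : Subgroup G} (h : H = H') (hχ : ∃ χ : IrrCharacter H, T.Good H χ) :
    ∃ χ : IrrCharacter H', T.Good H' χ := by
  subst h; exact hχ

/-- The congruence of θ at the centraliser of Q inside N. -/
def BaseCongr (T : Setting G) : Prop :=
  ∀ y : T.N, ¬ T.p ∣ orderOf y → (y : G) ∈ Subgroup.centralizer (T.Qb : Set G) →
    cv T.M T.θ y = cv T.M T.θ 1

/-- The determinant of θ has order prime to p. -/
def BaseDet (T : Setting G) : Prop :=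
  ∀ n : T.N, ¬ T.p ∣ orderOf (DetHom.det (T.θ : T.N → ℂ) n)

/-- Good extensions exist over solvable p'-groups. -/
theorem exists_good_solvable (hc : T.BaseCongr) (hd : T.BaseDet) :
    ∀ (n : ℕ) (E : Subgroup G), Nat.card E = n → E ≤ T.K → Group.IsSolvable E →
      ¬ T.p ∣ Nat.card E → ∃ χ : IrrCharacter (E ⊔ T.N : Subgroup G), T.Good (E ⊔ T.N) χ := by
  intro n
  induction n using Nat.strong_induction_on with
  | _ n ih =>
    intro E hn hEK hsolv hp'
    by_cases hE : E = ⊥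
    · subst hE
      refine Good.of_eq (bot_sup_eq T.N).symm ⟨T.θ, le_rfl, fun n => rfl, hd, hc⟩
    haveI := (Subgroup.nontrivial_iff_ne_bot E).2 hE
    obtain ⟨M₀, hM₀, hr⟩ := Supersolvable.exists_normal_prime_index E
    let E₀ : Subgroup G := M₀.map E.subtype
    have hE₀ : E₀ ≤ E := Subgroup.map_subtype_le _
    have hcard : Nat.card E₀ * M₀.index = Nat.card E := by
      rw [Subgroup.card_map_of_injective E.subtype_injective, Subgroup.card_mul_index]
    have hlt : Nat.card E₀ < n := by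
      rw [← hn, ← hcard]
      exact lt_mul_of_one_lt_right Nat.card_pos hr.one_lt
    haveI : Group.IsSolvable M₀ := Group.isSolvable_of_isSolvable_injective (f := M₀.subtype) M₀.subtype_injective
    have hsolv₀ : Group.IsSolvable E₀ := Group.isSolvable_of_surjective
      (f := (M₀.equivMapOfInjective E.subtype E.subtype_injective).toMonoidHom)
      (MulEquiv.surjective _)
    obtain ⟨χ₀, hχ₀⟩ := ih _ hlt E₀ rfl (hE₀.trans hEK) hsolv₀
      fun h => hp' (h.trans (Subgroup.card_dvd_of_le hE₀))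
    have hle : E₀ ⊔ T.N ≤ E ⊔ T.N := sup_le_sup_right hE₀ _
    by_cases heq : E ≤ E₀ ⊔ T.N
    · exact Good.of_eq (le_antisymm hle (sup_le heq le_sup_right)) ⟨χ₀, hχ₀⟩
    have hnorm : ∀ h ∈ E ⊔ T.N, ∀ y ∈ E₀ ⊔ T.N, h * y * h⁻¹ ∈ E₀ ⊔ T.N := by
      suffices h1 : E ⊔ T.N ≤ Subgroup.normalizer ((E₀ ⊔ T.N : Subgroup G) : Set G) from
        fun h hh y hy => (Subgroup.mem_normalizer_iff.1 (h1 hh) y).1 hy
      refine sup_le ?_ (le_sup_right.trans Subgroup.le_normalizer)
      intro x hx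
      have hsub : (E₀ ⊔ T.N).map (MulAut.conj x).toMonoidHom ≤ E₀ ⊔ T.N := by
        rw [Subgroup.map_sup]
        refine sup_le ?_ ?_
        · rintro _ ⟨w, ⟨v, hv, rfl⟩, rfl⟩
          exact Subgroup.mem_sup_left ⟨_, hM₀.conj_mem v hv ⟨x, hx⟩, rfl⟩
        · rintro _ ⟨w, hw, rfl⟩
          exact Subgroup.mem_sup_right (T.hN.conj_mem w hw x)
      refine Subgroup.mem_normalizer_iff_map_conj_eq.2 ?_
      exact Subgroup.eq_of_le_of_card_ge hsub
        (Subgroup.card_map_of_injective (MulAut.conj x).injective).ge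
    have hrel : (E₀ ⊔ T.N).relIndex (E ⊔ T.N) = M₀.index := by
      have h1 : (E₀ ⊔ T.N).relIndex (E ⊔ T.N) = (E₀ ⊔ T.N).relIndex E := by
        haveI : ((E₀ ⊔ T.N).subgroupOf (E ⊔ T.N)).Normal := ⟨fun y hy g => hnorm g g.2 y hy⟩
        exact relIndex_of_normal_sup E (E₀ ⊔ T.N) _
          (by rw [← sup_assoc, sup_of_le_left hE₀])
      have h2 : (E₀ ⊔ T.N).relIndex E ∣ M₀.index := by
        refine Subgroup.index_dvd_of_le ?_
        intro v hv
        exact Subgroup.mem_sup_left ⟨v, hv, rfl⟩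
      rw [h1]
      refine (hr.eq_one_or_self_of_dvd _ h2).resolve_left fun h3 => heq ?_
      exact Subgroup.relIndex_eq_one.1 h3
    refine exists_good_rStep hχ₀ hle hnorm hr (fun h => hp' ?_) hrel (sup_le hEK T.N_le_K) ?_
    · rw [← h]
      exact hcard ▸ dvd_mul_left _ _
    · intro h
      refine hp' (h.trans ?_)
      rw [sup_comm, Subgroup.relIndex_sup_left]
      exact Subgroup.relIndex_dvd_card _ _

/-- Good extensions exist over nilpotent groups. -/
theorem exists_good_nilpotent (hc : T.BaseCongr) (hd : T.BaseDet) (E : Subgroup G)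
    (hEK : E ≤ T.K) [Group.IsNilpotent E] :
    ∃ χ : IrrCharacter (E ⊔ T.N : Subgroup G), T.Good (E ⊔ T.N) χ := by
  obtain ⟨P, U, hU, hUP⟩ := Transfer.hasNormalPComplement_of_isNilpotent (G := E) (p := T.p)
  let E' : Subgroup G := U.map E.subtype
  have hE' : E' ≤ E := Subgroup.map_subtype_le _
  have hUidx : ∃ a : ℕ, U.index = T.p ^ a := by
    obtain ⟨a, ha⟩ := IsPGroup.iff_card.1 P.2
    exact ⟨a, hUP.symm.index_eq_card.trans ha⟩
  have hUcard : ¬ T.p ∣ Nat.card U := by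
    rw [← hUP.index_eq_card]
    exact P.not_dvd_index
  haveI : Group.IsSolvable E := inferInstance
  haveI : Group.IsSolvable U := Group.isSolvable_of_isSolvable_injective (f := U.subtype) U.subtype_injective
  obtain ⟨χ, hχ⟩ := exists_good_solvable hc hd _ E' rfl (hE'.trans hEK)
    (Group.isSolvable_of_surjective
      (f := (U.equivMapOfInjective E.subtype E.subtype_injective).toMonoidHom) (MulEquiv.surjective _))
    (by rwa [Subgroup.card_map_of_injective E.subtype_injective])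
  have hle : E' ⊔ T.N ≤ E ⊔ T.N := sup_le_sup_right hE' _
  refine exists_good_pStep hχ hle ?_ ?_
  · suffices h1 : E ⊔ T.N ≤ Subgroup.normalizer ((E' ⊔ T.N : Subgroup G) : Set G) from
      fun h hh y hy => (Subgroup.mem_normalizer_iff.1 (h1 hh) y).1 hy
    refine sup_le ?_ (le_sup_right.trans Subgroup.le_normalizer)
    intro x hx
    refine Subgroup.mem_normalizer_iff_map_conj_eq.2 (Subgroup.eq_of_le_of_card_ge ?_
      (Subgroup.card_map_of_injective (MulAut.conj x).injective).ge)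
    rw [Subgroup.map_sup]
    refine sup_le ?_ ?_
    · rintro _ ⟨w, ⟨v, hv, rfl⟩, rfl⟩
      exact Subgroup.mem_sup_left ⟨_, hU.conj_mem v hv ⟨x, hx⟩, rfl⟩
    · rintro _ ⟨w, hw, rfl⟩
      exact Subgroup.mem_sup_right (T.hN.conj_mem w hw x)
  · obtain ⟨a, ha⟩ := hUidx
    have h1 : (E' ⊔ T.N).relIndex (E ⊔ T.N) ∣ U.index := by
      have hn : ((E' ⊔ T.N).subgroupOf E).index ∣ U.index :=
        Subgroup.index_dvd_of_le fun v hv => Subgroup.mem_sup_left ⟨v, hv, rfl⟩
      refine dvd_trans (dvd_of_eq ?_) hn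
      have hnE : E ≤ Subgroup.normalizer ((E' ⊔ T.N : Subgroup G) : Set G) := by
        intro x hx
        refine Subgroup.mem_normalizer_iff_map_conj_eq.2 (Subgroup.eq_of_le_of_card_ge ?_
          (Subgroup.card_map_of_injective (MulAut.conj x).injective).ge)
        rw [Subgroup.map_sup]
        refine sup_le ?_ ?_
        · rintro _ ⟨w, ⟨v, hv, rfl⟩, rfl⟩
          exact Subgroup.mem_sup_left ⟨_, hU.conj_mem v hv ⟨x, hx⟩, rfl⟩
        · rintro _ ⟨w, hw, rfl⟩
          exact Subgroup.mem_sup_right (T.hN.conj_mem w hw x)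
      haveI : ((E' ⊔ T.N).subgroupOf (E ⊔ (E' ⊔ T.N))).Normal :=
        (Subgroup.normal_subgroupOf_iff_le_normalizer le_sup_right).2
          (sup_le hnE Subgroup.le_normalizer)
      rw [show E ⊔ T.N = E ⊔ (E' ⊔ T.N) by rw [← sup_assoc, sup_of_le_left hE']]
      exact relIndex_of_normal_sup E (E' ⊔ T.N) _ rfl
    obtain ⟨b, -, hb⟩ := (Nat.dvd_prime_pow T.hp).1 (ha ▸ h1)
    exact ⟨b, hb⟩

/-- The norm of an extension on a coset. -/
theorem sum_coset_norm {H : Subgroup G} {χ : IrrCharacter H} (h : T.Good H χ) [Fintype T.N]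
    (g : H) :
    ∑ n : T.N, (χ : H → ℂ) (⟨n, h.le n.2⟩ * g) * conj ((χ : H → ℂ) (⟨n, h.le n.2⟩ * g)) =
      (Nat.card T.N : ℂ) := by
  cases nonempty_fintype G
  let N' : Subgroup H := T.N.subgroupOf H
  haveI : N'.Normal := Subgroup.Normal.subgroupOf T.hN H
  have hirr : IsIrrCharacter N' (Clifford.resFun N' (χ : H → ℂ)) := by
    have h1 := Clifford.isIrrCharacter_comp_equiv (Subgroup.subgroupOfEquivOfLe h.le) T.θ.2
    rwa [show Clifford.resFun N' (χ : H → ℂ) =
      fun n => (T.θ : T.N → ℂ) (Subgroup.subgroupOfEquivOfLe h.le n) from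
        funext fun n => h.ext ⟨n.1.1, n.2⟩]
  obtain ⟨hmul, hinj, -⟩ := Clifford.gallagher χ.2 hirr
  set γ : H → ℂ := fun x => (χ : H → ℂ) x * conj ((χ : H → ℂ) x) with hγ
  have hγc : IsClassFunction H γ := fun x y => by
    simp only [hγ, Chars.irr_isClassFunction χ x y]
  have hco := congrFun (Clifford.cosetAvg_eq_sum (N := N') hγc) g
  let one : IrrCharacter (H ⧸ N') := Chars.trivialIrr _
  rw [Finset.sum_apply, Finset.sum_eq_single one] at hco
  · have h1 : classInner γ (Chars.inflate N' one : H → ℂ) = 1 := by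
      rw [← Chars.classInner_irr_self χ]
      simp only [classInner, hγ]
      refine congrArg _ (Finset.sum_congr rfl fun x _ => ?_)
      show _ * conj (1 : ℂ) = _
      rw [map_one, mul_one]
    rw [Pi.smul_apply, h1, one_smul, show (Chars.inflate N' one : H → ℂ) g = 1 from rfl] at hco
    have hne : (Nat.card N' : ℂ) ≠ 0 := Nat.cast_ne_zero.2 Nat.card_pos.ne'
    rw [inv_mul_eq_iff_eq_mul₀ hne, mul_one] at hco
    rw [← Nat.card_congr (Subgroup.subgroupOfEquivOfLe h.le).toEquiv]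
    refine Eq.trans ?_ hco
    exact Fintype.sum_equiv (Subgroup.subgroupOfEquivOfLe h.le).symm.toEquiv _ _ fun n => rfl
  · intro β _ hβ
    have hz : classInner γ (Chars.inflate N' β : H → ℂ) = 0 := by
      rw [← Chars.classInner_irr_of_ne (χ := χ) (ψ := ⟨_, hmul β⟩) (fun e => hβ ?_)]
      · simp only [classInner, hγ, Pi.mul_apply, map_mul]
        refine congrArg _ (Finset.sum_congr rfl fun x _ => ?_)
        ring
      · apply hinj
        show (χ : H → ℂ) * (Chars.inflate N' β : H → ℂ) = (χ : H → ℂ) * (Chars.inflate N' one : H → ℂ)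
        refine (congrArg Subtype.val e).symm.trans ?_
        funext x
        exact (mul_one _).symm
    rw [Pi.smul_apply, hz, zero_smul]
  · exact fun hno => absurd (Finset.mem_univ _) hno

/-- Good extensions exist on K. -/
theorem exists_good_K (hc : T.BaseCongr) (hd : T.BaseDet) :
    ∃ χ : IrrCharacter T.K, T.Good T.K χ := by
  cases nonempty_fintype G
  have hex : ∀ g : T.K, ∃ χ : IrrCharacter (Subgroup.zpowers (g : G) ⊔ T.N : Subgroup G),
      T.Good (Subgroup.zpowers (g : G) ⊔ T.N) χ := fun g => by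
    letI : CommGroup (Subgroup.zpowers (g : G)) := IsCyclic.commGroup
    haveI : Group.IsNilpotent (Subgroup.zpowers (g : G)) := CommGroup.isNilpotent
    exact exists_good_nilpotent hc hd _ (Subgroup.zpowers_le.2 g.2)
  choose X hX using hex
  set F : T.K → ℂ := fun g =>
    (X g).1 ⟨g, Subgroup.mem_sup_left (Subgroup.mem_zpowers _)⟩ with hF
  have key : ∀ (H : Subgroup G) (χ : IrrCharacter H), T.Good H χ → ∀ (g : T.K) (hg : (g : G) ∈ H),
      F g = (χ : H → ℂ) ⟨g, hg⟩ := by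
    intro H χ hχ g hg
    obtain ⟨χ', hχ', hval⟩ := hχ.comap (H' := Subgroup.zpowers (g : G) ⊔ T.N) le_sup_right 1
      (fun y hy => by simpa using sup_le (Subgroup.zpowers_le.2 hg) hχ.le hy)
    have e := (hX g).unique hχ'
    simp only [hF]
    rw [← e, hval]
    exact congrArg (χ : H → ℂ) (Subtype.ext (by simp))
  have hcl : IsClassFunction T.K F := by
    intro g h
    obtain ⟨χ', hχ', hval⟩ := (hX g).comap
      (H' := Subgroup.zpowers ((h * g * h⁻¹ : T.K) : G) ⊔ T.N) le_sup_right (h : G)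
      (fun y hy => by
        have hmap : (Subgroup.zpowers ((h * g * h⁻¹ : T.K) : G) ⊔ T.N).map
            (MulAut.conj (h : G)⁻¹).toMonoidHom ≤ Subgroup.zpowers (g : G) ⊔ T.N := by
          rw [Subgroup.map_sup, MonoidHom.map_zpowers]
          refine sup_le_sup (le_of_eq ?_) ?_
          · congr 1
            simp [mul_assoc]
          · rintro _ ⟨w, hw, rfl⟩
            exact T.hN.conj_mem w hw _
        simpa [mul_assoc] using hmap ⟨y, hy, rfl⟩)
    rw [key _ χ' hχ' (h * g * h⁻¹) (Subgroup.mem_sup_left (Subgroup.mem_zpowers _)), hval]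
    simp only [hF]
    exact congrArg (X g).1 (Subtype.ext (by simp [mul_assoc]))
  have hgen : IsGeneralizedCharacter T.K F := by
    refine BrauerInd.isGeneralizedCharacter_of_elementary hcl fun E q hq hel => ?_
    haveI := BrauerInd.isNilpotent_of_isElementary hq hel
    haveI : Group.IsNilpotent (E.map T.K.subtype) := Group.nilpotent_of_surjective
      (E.equivMapOfInjective T.K.subtype T.K.subtype_injective).toMonoidHom (MulEquiv.surjective _)
    obtain ⟨χ, hχ⟩ := exists_good_nilpotent hc hd (E.map T.K.subtype) (Subgroup.map_subtype_le _)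
    let c : E →* (E.map T.K.subtype ⊔ T.N : Subgroup G) :=
      { toFun := fun x => ⟨((x : T.K) : G), Subgroup.mem_sup_left ⟨x, x.2, rfl⟩⟩
        map_one' := rfl
        map_mul' := fun _ _ => rfl }
    rw [show (fun e : E => F e) = fun e => (χ : _ → ℂ) (c e) from
      funext fun e => key _ χ hχ (e : T.K) _]
    exact Chars.isGeneralizedCharacter_of_isCharacter
      (Chars.isCharacter_comp c (Chars.irr_isCharacter χ))
  have hnorm : classInner F F = 1 := by
    letI : Fintype T.N := Fintype.ofFinite _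
    have hsum : ∀ g : T.K, ∑ n : T.N, F (⟨n, T.N_le_K n.2⟩ * g) * conj (F (⟨n, T.N_le_K n.2⟩ * g)) =
        (Nat.card T.N : ℂ) := by
      intro g
      rw [← sum_coset_norm (hX g) ⟨g, Subgroup.mem_sup_left (Subgroup.mem_zpowers _)⟩]
      refine Finset.sum_congr rfl fun n _ => ?_
      rw [key _ (X g) (hX g) (⟨n, T.N_le_K n.2⟩ * g)
        (mul_mem (Subgroup.mem_sup_right n.2) (Subgroup.mem_sup_left (Subgroup.mem_zpowers _)))]
      rfl
    have h1 : ∑ n : T.N, ∑ g : T.K, F (⟨n, T.N_le_K n.2⟩ * g) * conj (F (⟨n, T.N_le_K n.2⟩ * g)) =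
        (Fintype.card T.N : ℂ) * ∑ g : T.K, F g * conj (F g) := by
      have h2 : ∀ n : T.N, ∑ g : T.K, F (⟨n, T.N_le_K n.2⟩ * g) * conj (F (⟨n, T.N_le_K n.2⟩ * g)) =
          ∑ g : T.K, F g * conj (F g) := fun n =>
        Equiv.sum_comp (Equiv.mulLeft (⟨n, T.N_le_K n.2⟩ : T.K)) (fun g => F g * conj (F g))
      rw [Finset.sum_congr rfl fun n _ => h2 n, Finset.sum_const, Finset.card_univ, nsmul_eq_mul]
    rw [Finset.sum_comm, Finset.sum_congr rfl fun g _ => hsum g, Finset.sum_const, Finset.card_univ,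
      nsmul_eq_mul, ← Nat.card_eq_fintype_card, ← Nat.card_eq_fintype_card] at h1
    have hne : (Nat.card T.N : ℂ) ≠ 0 := Nat.cast_ne_zero.2 Nat.card_pos.ne'
    rw [classInner, ← mul_left_cancel₀ hne ((mul_comm _ _).trans h1),
      inv_mul_cancel₀ (Nat.cast_ne_zero.2 Nat.card_pos.ne')]
  obtain ⟨χN, hχN⟩ : ∃ χ : IrrCharacter (⊥ ⊔ T.N : Subgroup G), T.Good (⊥ ⊔ T.N) χ :=
    exists_good_nilpotent hc hd ⊥ bot_le
  have hFN : ∀ n : T.N, F ⟨n, T.N_le_K n.2⟩ = (T.θ : T.N → ℂ) n := fun n =>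
    (key _ χN hχN ⟨n, T.N_le_K n.2⟩ (Subgroup.mem_sup_right n.2)).trans (hχN.ext n)
  have hirr : IsIrrCharacter T.K F := by
    refine (Chars.isGeneralizedCharacter_norm_one hgen hnorm).resolve_right fun hneg => ?_
    obtain ⟨a, ha, ha'⟩ := Chars.isIrrCharacter_exists_degree_pos hneg
    obtain ⟨b, hb, hb'⟩ := Chars.isIrrCharacter_exists_degree_pos T.θ.2
    rw [Pi.neg_apply, show F 1 = (T.θ : T.N → ℂ) 1 from hFN 1, hb'] at ha'
    have h2 : ((a + b : ℕ) : ℂ) = 0 := by push_cast; rw [← ha']; ring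
    exact absurd (Nat.cast_eq_zero.1 h2) (by omega)
  refine ⟨⟨F, hirr⟩, T.N_le_K, hFN, fun g => ?_, fun y hy hyC => ?_⟩
  · let S : Subgroup G := Subgroup.zpowers (g : G) ⊔ T.N
    let c : S →* T.K := Subgroup.inclusion (sup_le (Subgroup.zpowers_le.2 g.2) T.N_le_K)
    have h1 := DetHom.det_comp c (Chars.isCharacter_of_isIrrCharacter hirr)
    rw [show (fun x : S => F (c x)) = (X g : S → ℂ) from
      funext fun x => key _ (X g) (hX g) (c x) x.2] at h1
    have h2 := (hX g).det ⟨g, Subgroup.mem_sup_left (Subgroup.mem_zpowers _)⟩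
    rw [h1] at h2
    exact h2
  · show red T.M (F y) = red T.M (F 1)
    rw [show F 1 = (T.θ : T.N → ℂ) 1 from hFN 1]
    refine Eq.trans ?_ (congrArg (red T.M) (apply_one (hX y).le (hX y).ext))
    refine (hX y).congr ⟨y, _⟩ ?_ hyC
    rwa [Subgroup.orderOf_mk, Subgroup.orderOf_coe]

/-- A good extension to the whole group. -/
theorem exists_good_top (hc : T.BaseCongr) (hd : T.BaseDet) (hidx : ∃ a : ℕ, T.K.index = T.p ^ a) :
    ∃ χ : IrrCharacter (⊤ : Subgroup G), T.Good ⊤ χ := by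
  obtain ⟨χ, hχ⟩ := exists_good_K hc hd
  refine exists_good_pStep hχ le_top (fun h _ y hy => Subgroup.Normal.conj_mem inferInstance y hy h) ?_
  obtain ⟨a, ha⟩ := hidx
  exact ⟨a, by rw [Subgroup.relIndex_top_right, ha]⟩

end Setting

end Cfsg.Agent.Lib.CanonicalExt
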