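import Cfsg.Agent.Lib.CanonicalExt.Congr
import Cfsg.Agent.Lib.CharExt.Characters
import Cfsg.Agent.Lib.Clifford.CharExtension
import Cfsg.Agent.Lib.Clifford.Gallagher
import Cfsg.Agent.Lib.Clifford.Correspondence
import Cfsg.Agent.Lib.Clifford.LinearExtension
import Cfsg.Agent.Lib.DetHom
import Cfsg.Agent.Lib.GaloisChar.Basic
import Mathlib

/-!
# Canonical extensions of a character in the principal block

For a G-invariant irreducible character θ of a normal subgroup N, a subgroup H containing N and a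
Sylow p-subgroup Q of N, a good extension has determinant of order prime to p and is congruent to
its degree at the p-regular elements centralising Q.
-/

set_option autoImplicit false
set_option linter.unusedSectionVars false

namespace Cfsg.Agent.Lib.CanonicalExt

open Cfsg Cfsg.Agent.Lib
open scoped Classical

attribute [-instance] MonoidHom.instPow MonoidHom.mul instOneMonoidHom MonoidHom.instCommMonoid
  MonoidHom.instInv MonoidHom.instDiv

universe u

variable {G : Type u} [Group G] [Finite G]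

/-- The data of the extension problem. -/
structure Setting (G : Type u) [Group G] [Finite G] where
  p : ℕ
  hp : p.Prime
  M : Ideal AlgInt
  hM : IsPModular p M
  N : Subgroup G
  hN : N.Normal
  Q : Sylow p N
  θ : IrrCharacter N
  hinv : ∀ g : G, ∀ n n' : N, (n' : G) = g * n * g⁻¹ → (θ : N → ℂ) n' = (θ : N → ℂ) n
  hdeg : ¬ p ∣ charDegree (θ : N → ℂ)
  hreg : ∀ y : G, ¬ p ∣ orderOf y →
    y ∈ N ⊔ Subgroup.centralizer (((Q : Subgroup N).map N.subtype : Subgroup G) : Set G)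

namespace Setting

variable (T : Setting G)

instance : Fact T.p.Prime := ⟨T.hp⟩

instance : T.N.Normal := T.hN

instance : T.M.IsPrime := Blocks.isPModular_isPrime T.hM

/-- The image in G of the Sylow subgroup. -/
def Qb : Subgroup G := (T.Q : Subgroup T.N).map T.N.subtype

theorem Qb_le : T.Qb ≤ T.N := Subgroup.map_subtype_le _

theorem isPGroup_Qb : IsPGroup T.p T.Qb := T.Q.2.map _

/-- The normal subgroup generated by N and the centraliser of Q. -/
def K : Subgroup G := T.N ⊔ Subgroup.centralizer (T.Qb : Set G)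

theorem N_le_K : T.N ≤ T.K := le_sup_left

theorem exists_frattini (x : G) :
    ∃ m ∈ Subgroup.normalizer (T.Qb : Set G), ∃ n ∈ T.N, m * n = x := by
  have h : Subgroup.normalizer (T.Qb : Set G) ⊔ T.N = ⊤ := Sylow.normalizer_sup_eq_top T.Q
  have hx : x ∈ Subgroup.normalizer (T.Qb : Set G) ⊔ T.N := h ▸ Subgroup.mem_top x
  exact Subgroup.mem_sup_of_normal_right.1 hx

theorem conj_mem_centralizer {m c : G} (hm : m ∈ Subgroup.normalizer (T.Qb : Set G))
    (hc : c ∈ Subgroup.centralizer (T.Qb : Set G)) :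
    m⁻¹ * c * m ∈ Subgroup.centralizer (T.Qb : Set G) := by
  refine Subgroup.mem_centralizer_iff.2 fun q hq => ?_
  have h1 : m * q * m⁻¹ ∈ T.Qb := (Subgroup.mem_normalizer_iff.1 hm q).1 hq
  calc q * (m⁻¹ * c * m) = m⁻¹ * ((m * q * m⁻¹) * c) * m := by group
    _ = m⁻¹ * (c * (m * q * m⁻¹)) * m := by rw [Subgroup.mem_centralizer_iff.1 hc _ h1]
    _ = m⁻¹ * c * m * q := by group

instance : T.K.Normal := by
  constructor
  intro k hk g
  obtain ⟨m, hm, n, hn, hg⟩ := T.exists_frattini g⁻¹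
  obtain ⟨a, ha, c, hc, rfl⟩ := Subgroup.mem_sup_of_normal_left.1 hk
  have e : g = n⁻¹ * m⁻¹ := by rw [← mul_inv_rev, hg, inv_inv]
  have hnK : n ∈ T.K := T.N_le_K hn
  rw [show g * (a * c) * g⁻¹ = n⁻¹ * ((m⁻¹ * a * m) * (m⁻¹ * c * m)) * n by rw [e]; group]
  refine mul_mem (mul_mem (inv_mem hnK) (mul_mem (T.N_le_K ?_)
    (Subgroup.mem_sup_right (T.conj_mem_centralizer hm hc)))) hnK
  simpa using T.hN.conj_mem a ha m⁻¹

/-- The degree modulo M is not zero. -/
theorem cv_one_ne_zero : cv T.M T.θ 1 ≠ 0 := by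
  haveI := Blocks.charP_residue (p := T.p) T.hM
  rw [show cv T.M T.θ 1 = red T.M ((T.θ : T.N → ℂ) 1) from rfl,
    ← BlockCongr.charDegree_isCharacter (Chars.irr_isCharacter T.θ), red_natCast, Ne,
    CharP.cast_eq_zero_iff (Blocks.Residue T.M) T.p]
  exact T.hdeg

/-- A good extension. -/
structure Good (H : Subgroup G) (χ : IrrCharacter H) : Prop where
  le : T.N ≤ H
  ext : ∀ n : T.N, (χ : H → ℂ) ⟨n, le n.2⟩ = (T.θ : T.N → ℂ) n
  det : ∀ g : H, ¬ T.p ∣ orderOf (DetHom.det (χ : H → ℂ) g)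
  congr : ∀ y : H, ¬ T.p ∣ orderOf y → (y : G) ∈ Subgroup.centralizer (T.Qb : Set G) →
    cv T.M χ y = cv T.M χ 1

variable {T}

theorem apply_one {H : Subgroup G} {χ : IrrCharacter H} (hle : T.N ≤ H)
    (hext : ∀ n : T.N, (χ : H → ℂ) ⟨n, hle n.2⟩ = (T.θ : T.N → ℂ) n) :
    (χ : H → ℂ) 1 = (T.θ : T.N → ℂ) 1 := by
  rw [← hext 1]
  rfl

theorem cv_one {H : Subgroup G} {χ : IrrCharacter H} (hle : T.N ≤ H)
    (hext : ∀ n : T.N, (χ : H → ℂ) ⟨n, hle n.2⟩ = (T.θ : T.N → ℂ) n) :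
    cv T.M χ 1 = cv T.M T.θ 1 :=
  congrArg (red T.M) (apply_one hle hext)

theorem det_one {H : Subgroup G} {χ : IrrCharacter H} (h : T.Good H χ) (n : T.N) :
    DetHom.det (χ : H → ℂ) ⟨n, h.le n.2⟩ = DetHom.det (T.θ : T.N → ℂ) n := by
  have h1 := DetHom.det_comp (Subgroup.inclusion h.le) (Chars.irr_isCharacter χ)
  rw [show (fun y : T.N => (χ : H → ℂ) (Subgroup.inclusion h.le y)) = (T.θ : T.N → ℂ) from
    funext h.ext] at h1
  rw [h1]; rfl

/-- A character whose pullback to N is θ stays irreducible. -/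
theorem isIrr_comp {H H' : Subgroup G} (hle' : T.N ≤ H') (χ : IrrCharacter H) (c : H' →* H)
    (h : ∀ n : T.N, (χ : H → ℂ) (c ⟨n, hle' n.2⟩) = (T.θ : T.N → ℂ) n) :
    IsIrrCharacter H' (fun y => (χ : H → ℂ) (c y)) := by
  obtain ⟨k, ρ, -, hρ⟩ := χ.2
  obtain ⟨m, σ, hσ, hσθ⟩ := T.θ.2
  let τ : Representation ℂ H' (Fin k → ℂ) := ρ.comp c
  refine ⟨k, τ, CharExt.isIrreducible_of_comp (Subgroup.inclusion hle') τ ?_, ?_⟩
  · obtain ⟨e⟩ := CharExt.nonempty_equiv_of_char_eq σ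
      (τ.comp (Subgroup.inclusion hle') : Representation ℂ T.N (Fin k → ℂ))
      (funext fun n => by
        rw [hσθ]
        show ρ.character (c ⟨n, hle' n.2⟩) = _
        rw [hρ]
        exact h n)
    exact Chars.isIrreducible_of_equiv e
  · funext y
    show ρ.character (c y) = _
    rw [hρ]

/-- Good extensions restrict and travel along conjugation. -/
theorem Good.comap {H H' : Subgroup G} {χ : IrrCharacter H} (h : T.Good H χ) (hle' : T.N ≤ H')
    (x : G) (hx : ∀ y ∈ H', x⁻¹ * y * x ∈ H) :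
    ∃ χ' : IrrCharacter H', T.Good H' χ' ∧
      ∀ y : H', (χ' : H' → ℂ) y = (χ : H → ℂ) ⟨x⁻¹ * y * x, hx y y.2⟩ := by
  let c : H' →* H :=
    { toFun := fun y => ⟨x⁻¹ * y * x, hx y y.2⟩
      map_one' := Subtype.ext (by simp)
      map_mul' := fun a b => Subtype.ext (by simp [mul_assoc]) }
  have hext : ∀ n : T.N, (χ : H → ℂ) (c ⟨n, hle' n.2⟩) = (T.θ : T.N → ℂ) n := by
    intro n
    have hm : x⁻¹ * (n : G) * x ∈ T.N := by simpa using T.hN.conj_mem (n : G) n.2 x⁻¹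
    exact (h.ext ⟨_, hm⟩).trans (T.hinv x⁻¹ n ⟨_, hm⟩ (by simp))
  refine ⟨⟨_, isIrr_comp hle' χ c hext⟩, ⟨hle', hext, fun g => ?_, fun y hy hyC => ?_⟩, fun y => rfl⟩
  · show ¬ T.p ∣ orderOf (DetHom.det (fun y => (χ : H → ℂ) (c y)) g)
    rw [DetHom.det_comp c (Chars.irr_isCharacter χ), MonoidHom.comp_apply]
    exact h.det _
  · obtain ⟨m, hm, n, hn, hmn⟩ := T.exists_frattini x
    set z : G := m⁻¹ * (y : G) * m with hz
    have hzC : z ∈ Subgroup.centralizer (T.Qb : Set G) := T.conj_mem_centralizer hm hyC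
    have hcy : ((c y : H) : G) = n⁻¹ * z * n := by
      show x⁻¹ * (y : G) * x = _
      rw [hz, ← hmn]; group
    have hzH : z ∈ H := by
      rw [show z = n * (c y : G) * n⁻¹ by rw [hcy]; group]
      exact mul_mem (mul_mem (h.le hn) (c y).2) (inv_mem (h.le hn))
    have hzreg : ¬ T.p ∣ orderOf (⟨z, hzH⟩ : H) := by
      rw [Subgroup.orderOf_mk, show z = MulAut.conj m⁻¹ (y : G) by simp [hz], MulEquiv.orderOf_eq,
        Subgroup.orderOf_coe]
      exact hy
    show red T.M ((χ : H → ℂ) (c y)) = red T.M ((χ : H → ℂ) (c 1))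
    rw [map_one, show c y = ⟨n, h.le hn⟩⁻¹ * ⟨z, hzH⟩ * ⟨n, h.le hn⟩⁻¹⁻¹ from
      Subtype.ext (by simp [hcy]), Chars.irr_isClassFunction χ]
    exact h.congr _ hzreg hzC

/-- Good extensions are unique. -/
theorem Good.unique {H : Subgroup G} {χ χ' : IrrCharacter H} (h : T.Good H χ) (h' : T.Good H χ') :
    χ' = χ := by
  cases nonempty_fintype G
  let N' : Subgroup H := T.N.subgroupOf H
  haveI : N'.Normal := Subgroup.Normal.subgroupOf T.hN H
  have hres : Clifford.resFun N' (χ' : H → ℂ) = Clifford.resFun N' (χ : H → ℂ) :=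
    funext fun n => (h'.ext ⟨n.1.1, n.2⟩).trans (h.ext ⟨n.1.1, n.2⟩).symm
  have hirr : IsIrrCharacter N' (Clifford.resFun N' (χ : H → ℂ)) := by
    have h1 := Clifford.isIrrCharacter_comp_equiv (Subgroup.subgroupOfEquivOfLe h.le) T.θ.2
    rwa [show Clifford.resFun N' (χ : H → ℂ) =
      fun n => (T.θ : T.N → ℂ) (Subgroup.subgroupOfEquivOfLe h.le n) from
        funext fun n => h.ext ⟨n.1.1, n.2⟩]
  obtain ⟨β, hβ⟩ := ((Clifford.gallagher χ.2 hirr).2.2 _ χ'.2).1 (by
    rw [hres, Chars.classInner_irr_self ⟨_, hirr⟩]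
    exact one_ne_zero)
  have hβ1 : (Chars.inflate N' β : H → ℂ) 1 = 1 := by
    have h2 := congrFun hβ 1
    rw [Pi.mul_apply, apply_one h'.le h'.ext, ← apply_one h.le h.ext] at h2
    exact (mul_eq_left₀ (Chars.irr_apply_one_ne_zero χ)).1 h2.symm
  obtain ⟨μ, hμ⟩ := Clifford.exists_hom_of_linear (Chars.irr_isCharacter (Chars.inflate N' β)) hβ1
  have hval : (χ' : H → ℂ) = fun g => (μ g : ℂ) * (χ : H → ℂ) g := by
    rw [hβ, hμ]
    funext g
    exact mul_comm _ _
  have hμN : ∀ n : H, (n : G) ∈ T.N → μ n = 1 := fun n hn => by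
    apply Units.ext
    rw [Units.val_one, ← congrFun hμ n]
    rw [Clifford.inflate_apply_mem β ⟨n, hn⟩]
    have h3 := Clifford.inflate_apply_mem (N := N') β 1
    rw [OneMemClass.coe_one, hβ1] at h3
    exact h3.symm
  have hd := T.cv_one_ne_zero
  have hμC : ∀ y : H, ¬ T.p ∣ orderOf y → (y : G) ∈ Subgroup.centralizer (T.Qb : Set G) →
      μ y = 1 := by
    intro y hy hyC
    apply Units.ext
    have hr : ((μ y : ℂˣ) : ℂ) ^ orderOf y = 1 := by
      rw [← Units.val_pow_eq_pow_val, ← map_pow, pow_orderOf_eq_one, map_one, Units.val_one]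
    refine eq_one_of_red_eq_one T.hM hy hr (mul_right_cancel₀ hd ?_)
    have h1 : cv T.M χ' y = cv T.M T.θ 1 := (h'.congr y hy hyC).trans (cv_one h'.le h'.ext)
    have h2 : cv T.M χ y = cv T.M T.θ 1 := (h.congr y hy hyC).trans (cv_one h.le h.ext)
    rw [show cv T.M χ' y = red T.M (((μ y : ℂˣ) : ℂ) * (χ : H → ℂ) y) from
        congrArg (red T.M) (congrFun hval y),
      red_mul (root_mem (orderOf_pos y) hr) (val_mem χ y),
      show red T.M ((χ : H → ℂ) y) = cv T.M T.θ 1 from h2] at h1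
    rw [one_mul]
    exact h1
  have hμreg : ∀ y : H, ¬ T.p ∣ orderOf y → μ y = 1 := by
    intro y hy
    obtain ⟨a, ha, c, hc, e⟩ := Subgroup.mem_sup_of_normal_left.1
      (T.hreg y (by rwa [Subgroup.orderOf_coe]))
    have hcH : c ∈ H := by
      rw [show c = a⁻¹ * (y : G) by rw [← e]; group]
      exact mul_mem (inv_mem (h.le ha)) y.2
    have hμy : μ y = μ ⟨c, hcH⟩ := by
      rw [show y = ⟨a, h.le ha⟩ * ⟨c, hcH⟩ from Subtype.ext e.symm, map_mul, hμN _ ha, one_mul]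
    obtain ⟨m, k, j, h1, h2, h3⟩ := BlockCongr.exists_split T.hp (⟨c, hcH⟩ : H)
    have hμc : μ ⟨c, hcH⟩ = μ ((⟨c, hcH⟩ : H) ^ k) := by
      conv_lhs => rw [← h2]
      rw [pow_add, map_mul, hμC _ h3 (by
        rw [Subgroup.coe_pow]; exact Subgroup.pow_mem _ hc m), one_mul]
    rw [hμy, hμc]
    refine orderOf_eq_one_iff.1 (Nat.eq_one_of_dvd_coprimes
      (Nat.Coprime.pow_left j (T.hp.coprime_iff_not_dvd.2 hy)) ?_ ?_)
    · exact orderOf_dvd_of_pow_eq_one (by rw [← map_pow, h1, map_one])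
    · rw [← hμc, ← hμy]
      exact orderOf_map_dvd μ y
  have hμall : ∀ g : H, μ g = 1 := by
    intro g
    obtain ⟨m, k, j, h1, h2, h3⟩ := BlockCongr.exists_split T.hp g
    rw [← h2, pow_add, map_mul, hμreg _ h3, one_mul]
    set z := g ^ k
    have hz : μ z ^ T.p ^ j = 1 := by rw [← map_pow, h1, map_one]
    have hd' : ((χ : H → ℂ) 1) = (charDegree (T.θ : T.N → ℂ) : ℂ) := by
      rw [apply_one h.le h.ext, BlockCongr.charDegree_isCharacter (Chars.irr_isCharacter T.θ)]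
    have hdet : DetHom.det (χ' : H → ℂ) z =
        μ z ^ charDegree (T.θ : T.N → ℂ) * DetHom.det (χ : H → ℂ) z := by
      rw [hval, DetHom.det_hom_mul μ (Chars.irr_isCharacter χ) hd', MonoidHom.mul_apply,
        MonoidHom.pow_apply]
    have h4 : μ z ^ charDegree (T.θ : T.N → ℂ) = 1 := by
      refine orderOf_eq_one_iff.1 (Nat.eq_one_of_dvd_coprimes (Nat.Coprime.pow_left j
        (T.hp.coprime_iff_not_dvd.2 (fun hd' => ?_ : ¬ T.p ∣
          orderOf (DetHom.det (χ' : H → ℂ) z) * orderOf (DetHom.det (χ : H → ℂ) z)))) ?_ ?_)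
      · rcases (Nat.Prime.dvd_mul T.hp).1 hd' with e | e
        · exact h'.det z e
        · exact h.det z e
      · exact orderOf_dvd_of_pow_eq_one (by rw [← pow_mul, mul_comm, pow_mul, hz, one_pow])
      · refine orderOf_dvd_of_pow_eq_one ?_
        rw [show μ z ^ charDegree (T.θ : T.N → ℂ) =
          DetHom.det (χ' : H → ℂ) z / DetHom.det (χ : H → ℂ) z from eq_div_iff_mul_eq'.2 hdet.symm]
        rw [div_pow, pow_mul, pow_orderOf_eq_one, one_pow, pow_mul', pow_orderOf_eq_one, one_pow,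
          div_one]
    exact orderOf_eq_one_iff.1 (Nat.eq_one_of_dvd_coprimes
      (Nat.Coprime.pow_left j (T.hp.coprime_iff_not_dvd.2 T.hdeg))
      (orderOf_dvd_of_pow_eq_one hz) (orderOf_dvd_of_pow_eq_one h4))
  refine Subtype.ext ?_
  rw [hval]
  funext g
  rw [hμall, Units.val_one, one_mul]

/-- A good extension of an invariant subgroup is invariant. -/
theorem Good.invariant {H₁ : Subgroup G} {χ : IrrCharacter H₁} (h : T.Good H₁ χ) (g : G)
    (hg : ∀ y ∈ H₁, g * y * g⁻¹ ∈ H₁) (y : H₁) :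
    (χ : H₁ → ℂ) ⟨g * y * g⁻¹, hg y y.2⟩ = (χ : H₁ → ℂ) y := by
  obtain ⟨χ', hχ', hval⟩ := h.comap h.le g⁻¹ (fun w hw => by simpa using hg w hw)
  rw [h.unique hχ'] at hval
  rw [hval y]
  exact congrArg (χ : H₁ → ℂ) (Subtype.ext (by simp))

/-- Extending through a p-power index. -/
theorem exists_good_pStep {H₁ H : Subgroup G} {χ₁ : IrrCharacter H₁} (h₁ : T.Good H₁ χ₁)
    (hle : H₁ ≤ H) (hn : ∀ h ∈ H, ∀ y ∈ H₁, h * y * h⁻¹ ∈ H₁)
    (hidx : ∃ a : ℕ, H₁.relIndex H = T.p ^ a) : ∃ χ : IrrCharacter H, T.Good H χ := by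
  let A : Subgroup H := H₁.subgroupOf H
  haveI : A.Normal := ⟨fun y hy g => hn g g.2 y hy⟩
  let e : A ≃* H₁ := Subgroup.subgroupOfEquivOfLe hle
  let ϑ : A → ℂ := fun a => (χ₁ : H₁ → ℂ) (e a)
  have hϑ : IsIrrCharacter A ϑ := Clifford.isIrrCharacter_comp_equiv e χ₁.2
  set d := charDegree (T.θ : T.N → ℂ)
  have hd : ϑ 1 = (d : ℂ) := by
    simp only [ϑ, map_one]
    rw [apply_one h₁.le h₁.ext, BlockCongr.charDegree_isCharacter (Chars.irr_isCharacter T.θ)]
  obtain ⟨a, ha⟩ := hidx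
  have hA : A.index = T.p ^ a := ha
  have hinv : ∀ (g : H) (n : A), ϑ ⟨g * n * g⁻¹, Subgroup.Normal.conj_mem ‹A.Normal› n n.2 g⟩ = ϑ n :=
    fun g n => h₁.invariant (g : G) (fun y hy => hn g g.2 y hy) (e n)
  set f : A →* ℂˣ := (DetHom.det (χ₁ : H₁ → ℂ)).comp e.toMonoidHom with hf
  have hfϑ : DetHom.det ϑ = f := DetHom.det_comp e.toMonoidHom (Chars.irr_isCharacter χ₁)
  have hfinv : ∀ (g : H) (n : A), f ⟨g * n * g⁻¹, Subgroup.Normal.conj_mem ‹A.Normal› n n.2 g⟩ = f n := by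
    intro g n
    let c : A →* A := (MulAut.conjNormal g).toMonoidHom
    have h1 := DetHom.det_comp c (Chars.isCharacter_of_isIrrCharacter hϑ)
    rw [show (fun w : A => ϑ (c w)) = ϑ from funext fun w =>
      (congrArg ϑ (Subtype.ext (MulAut.conjNormal_apply g w))).trans (hinv g w), hfϑ] at h1
    refine Eq.trans ?_ (congrArg (fun k : A →* ℂˣ => k n) h1).symm
    exact congrArg f (Subtype.ext (MulAut.conjNormal_apply g n).symm)
  have hford : ¬ T.p ∣ orderOf f := by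
    intro hd'
    obtain ⟨k, hk⟩ := hd'
    have hall : f ^ k = 1 := by
      refine MonoidHom.ext fun n => ?_
      rw [MonoidHom.pow_apply, MonoidHom.one_apply]
      refine orderOf_dvd_iff_pow_eq_one.1 ?_
      have h2 : orderOf (f n) ∣ T.p * k := hk ▸ orderOf_dvd_of_pow_eq_one
        (by rw [← MonoidHom.pow_apply, pow_orderOf_eq_one, MonoidHom.one_apply])
      exact ((T.hp.coprime_iff_not_dvd.2 (h₁.det (e n))).symm).dvd_of_dvd_mul_left h2
    have h3 := orderOf_dvd_of_pow_eq_one hall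
    have hpos : 0 < orderOf f := by
      refine orderOf_pos_iff.2 (isOfFinOrder_iff_pow_eq_one.2 ⟨Nat.card A, Nat.card_pos, ?_⟩)
      exact MonoidHom.ext fun n => by
        rw [MonoidHom.pow_apply, ← map_pow, pow_card_eq_one', map_one, MonoidHom.one_apply]
    rw [hk] at h3 hpos
    have hk0 : 0 < k := Nat.pos_of_mul_pos_left hpos
    have := Nat.le_of_dvd hk0 h3
    nlinarith [T.hp.two_le]
  obtain ⟨μ, hμ, hμo⟩ := Clifford.exists_linear_extension_coprime f hfinv
    (by rw [hA]; exact Nat.Coprime.pow_left a (T.hp.coprime_iff_not_dvd.2 hford))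
  have hdetA : ∀ n : A, (μ n : ℂ) = detChar ϑ n := by
    intro n
    rw [hμ, ← hfϑ]
    obtain ⟨k, ρ, hρ, hρϑ⟩ := hϑ
    rw [← hρϑ, DetHom.det_eq, Clifford.detChar_character ρ ⟨k, ρ, rfl⟩]
  obtain ⟨χ, hχ, hχA, hχd⟩ := Clifford.exists_char_extension hϑ hinv hd
    (by rw [hA]; exact Nat.Coprime.pow_left a (T.hp.coprime_iff_not_dvd.2 T.hdeg)) μ hdetA
  have hdet : DetHom.det χ = μ := by
    obtain ⟨k, ρ, hρ, rfl⟩ := hχ
    refine MonoidHom.ext fun g => Units.ext ?_
    rw [DetHom.det_eq, ← congrFun hχd g, Clifford.detChar_character ρ ⟨k, ρ, rfl⟩]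
  refine ⟨⟨χ, hχ⟩, h₁.le.trans hle, fun n => ?_, fun g => ?_, fun y hy hyC => ?_⟩
  · exact (hχA ⟨⟨n, hle (h₁.le n.2)⟩, h₁.le n.2⟩).trans (h₁.ext n)
  · show ¬ T.p ∣ orderOf (DetHom.det χ g)
    rw [hdet]
    intro h4
    apply hford
    rw [← hμo]
    exact h4.trans (orderOf_dvd_of_pow_eq_one
      (by rw [← MonoidHom.pow_apply, pow_orderOf_eq_one, MonoidHom.one_apply]))
  · have hyA : y ∈ A := by
      rw [← QuotientGroup.eq_one_iff, ← orderOf_eq_one_iff]
      refine Nat.eq_one_of_dvd_coprimes (Nat.Coprime.pow_left a (T.hp.coprime_iff_not_dvd.2 hy))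
        ?_ (orderOf_map_dvd (QuotientGroup.mk' A) y)
      rw [← hA]
      exact orderOf_dvd_natCard _
    show red T.M (χ y) = red T.M (χ 1)
    rw [show χ y = ϑ ⟨y, hyA⟩ from hχA ⟨y, hyA⟩, show χ 1 = ϑ 1 from hχA 1]
    refine (h₁.congr (e ⟨y, hyA⟩) ?_ hyC).trans (congrArg (red T.M) ?_)
    · rw [MulEquiv.orderOf_eq, Subgroup.orderOf_mk]
      exact hy
    · simp only [ϑ, map_one]

end Setting

end Cfsg.Agent.Lib.CanonicalExt
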